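import Cfsg.Agent.Spor.Tib.D0

set_option autoImplicit false
set_option maxRecDepth 100000000
set_option Elab.async false

namespace Cfsg.Agent.Spor.Tib

theorem ok0 : Net.okb 4 n0 = true := by decide +kernel

theorem ok1 : Net.okb 4 n1 = true := by decide +kernel

theorem ok2 : Net.okb 4 n2 = true := by decide +kernel

theorem rel0 : T.rel 4 [5, 2, 1, 4, 4] 0 4 = true := by decide +kernel

theorem rel1 : T.rel 4 [1, 6, 3, 3, 1, 6, 3, 3, 1, 6, 3, 3, 1, 6, 3, 3] 0 4 = true := by decide +kernel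

theorem rel2 : T.rel 4 [1, 6, 3, 3, 1, 6, 3, 3, 5, 1, 6, 3, 5, 3, 6, 6, 5, 1, 6, 3, 5, 3, 6, 6] 0 4 = true := by decide +kernel

theorem rel3 : T.rel 4 [1, 6, 3, 3, 1, 6, 3, 3, 5, 1, 6, 3, 5, 5, 1, 6, 5, 1, 6, 3, 5, 5, 1, 6] 0 4 = true := by decide +kernel

theorem rel4 : T.rel 4 [1, 6, 3, 3, 5, 3, 6, 6, 1, 1, 5, 3, 5, 1, 6, 3, 5, 5, 1, 6, 1, 5, 3, 6] 0 4 = true := by decide +kernel

theorem rel5 : T.rel 4 [5, 1, 6, 3, 5, 1, 6, 3, 5, 1, 6, 3, 5, 1, 6, 3] 0 4 = true := by decide +kernel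

theorem rel6 : T.rel 4 [1, 6, 3, 3, 1, 5, 3, 6, 5, 3, 6, 6, 5, 1, 6, 3, 1, 1, 5, 3, 5, 5, 1, 6] 0 4 = true := by decide +kernel

theorem rel7 : T.rel 4 [1, 6, 3, 3, 5, 1, 6, 3, 5, 5, 1, 6, 1, 6, 3, 3, 5, 1, 6, 3, 5, 5, 1, 6] 0 4 = true := by decide +kernel

theorem rel8 : T.rel 4 [5, 3, 6, 6, 5, 3, 6, 6, 5, 3, 6, 6, 5, 3, 6, 6] 0 4 = true := by decide +kernel

theorem rel9 : T.rel 4 [3, 5, 3, 3, 5, 1, 6, 3, 5, 3, 6, 6, 5, 1, 6, 3] 0 4 = true := by decide +kernel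

theorem rel10 : T.rel 4 [1, 1, 1, 1] 0 4 = true := by decide +kernel

theorem rel11 : T.rel 4 [5, 5, 5, 5] 0 4 = true := by decide +kernel

theorem rel12 : T.rel 4 [2, 3, 4, 1, 2, 5, 3, 3, 5] 0 4 = true := by decide +kernel

theorem rel13 : T.rel 4 [2, 1, 1, 4, 1, 4, 5, 3, 3, 6, 3] 0 4 = true := by decide +kernel

theorem hcov : T.treeCov (ones 10) L 1 = true := by decide +kernel

theorem hg : lall (fun z => band (memL L z) (band (sub (ones 10) (T.let z).cl) (T.closed (ones 10) z))) gs = true := by decide +kernel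

theorem rot1_1 : T.rot 1 [3] (sel (ones 10) ip1 1) = true := by decide +kernel

theorem rot1_1r : band (Rule.ok (2 * 0) EX RL ⟨1 :: [3], [], 13, false⟩) (lall (memL L) [3]) = true := by decide +kernel

theorem rot1_2 : T.rot 1 [1, 1, 1] (sel (ones 10) ip1 2) = true := by decide +kernel

theorem rot1_2r : band (Rule.ok (2 * 0) EX RL ⟨1 :: [1, 1, 1], [], 9, true⟩) (lall (memL L) [1, 1, 1]) = true := by decide +kernel

theorem rot1_3 : T.rot 1 [4, 4, 5, 2] (sel (ones 10) ip1 3) = true := by decide +kernel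

theorem rot1_3r : band (Rule.ok (2 * 0) EX RL ⟨1 :: [4, 4, 5, 2], [], 13, false⟩) (lall (memL L) [4, 4, 5, 2]) = true := by decide +kernel

theorem cov1 : T.cover 1 [(sel (ones 10) ip1 1), (sel (ones 10) ip1 2), (sel (ones 10) ip1 3), 1] = true := by decide +kernel

theorem tl1 : T.treeLt 4 1 = true := by decide +kernel

theorem rot2_1 : T.rot 2 [4] (sel (ones 10) ip2 1) = true := by decide +kernel

theorem rot2_1r : band (Rule.ok (2 * 0) EX RL ⟨2 :: [4], [], 13, false⟩) (lall (memL L) [4]) = true := by decide +kernel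

theorem rot2_2 : T.rot 2 [3, 4, 6, 2] (sel (ones 10) ip2 2) = true := by decide +kernel

theorem rot2_2r : band (Rule.ok (2 * 0) EX RL ⟨2 :: [3, 4, 6, 2], [], 13, false⟩) (lall (memL L) [3, 4, 6, 2]) = true := by decide +kernel

theorem rot2_3 : T.rot 2 [1, 4, 4, 5] (sel (ones 10) ip2 3) = true := by decide +kernel

theorem rot2_3r : band (Rule.ok (2 * 0) EX RL ⟨2 :: [1, 4, 4, 5], [], 13, false⟩) (lall (memL L) [1, 4, 4, 5]) = true := by decide +kernel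

theorem rot2_4 : T.rot 2 [5, 3, 3, 5, 2, 3, 4, 1] (sel (ones 10) ip2 4) = true := by decide +kernel

theorem rot2_4r : band (Rule.ok (2 * 0) EX RL ⟨2 :: [5, 3, 3, 5, 2, 3, 4, 1], [3, 0, 2, 1], 11, true⟩) (lall (memL L) [5, 3, 3, 5, 2, 3, 4, 1]) = true := by decide +kernel

theorem rot2_5 : T.rot 2 [1, 4, 6, 1, 1, 6, 4, 3] (sel (ones 10) ip2 5) = true := by decide +kernel

theorem rot2_5r : band (Rule.ok (2 * 0) EX RL ⟨2 :: [1, 4, 6, 1, 1, 6, 4, 3], [3, 0, 2], 11, false⟩) (lall (memL L) [1, 4, 6, 1, 1, 6, 4, 3]) = true := by decide +kernel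

theorem rot2_6 : T.rot 2 [3, 2, 3, 3, 4, 1, 5, 1, 1, 6] (sel (ones 10) ip2 6) = true := by decide +kernel

theorem rot2_6r : band (Rule.ok (2 * 0) EX RL ⟨2 :: [3, 2, 3, 3, 4, 1, 5, 1, 1, 6], [3, 1, 1, 2, 1, 2], 12, false⟩) (lall (memL L) [3, 2, 3, 3, 4, 1, 5, 1, 1, 6]) = true := by decide +kernel

theorem rot2_7 : T.rot 2 [3, 3, 4, 1, 5, 1, 1, 6, 2, 3] (sel (ones 10) ip2 7) = true := by decide +kernel

theorem rot2_7r : band (Rule.ok (2 * 0) EX RL ⟨2 :: [3, 3, 4, 1, 5, 1, 1, 6, 2, 3], [3, 1, 1, 2], 12, false⟩) (lall (memL L) [3, 3, 4, 1, 5, 1, 1, 6, 2, 3]) = true := by decide +kernel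

theorem cov2 : T.cover 2 [(sel (ones 10) ip2 1), (sel (ones 10) ip2 2), (sel (ones 10) ip2 3), (sel (ones 10) ip2 4), (sel (ones 10) ip2 5), (sel (ones 10) ip2 6), (sel (ones 10) ip2 7)] = true := by decide +kernel

theorem tl2 : T.treeLt 4 2 = true := by decide +kernel

theorem rot3_1 : T.rot 3 [1] (sel (ones 10) ip3 1) = true := by decide +kernel

theorem rot3_1r : band (Rule.ok (2 * 0) EX RL ⟨3 :: [1], [], 13, false⟩) (lall (memL L) [1]) = true := by decide +kernel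

theorem rot3_2 : T.rot 3 [3, 3, 3] (sel (ones 10) ip3 2) = true := by decide +kernel

theorem rot3_2r : band (Rule.ok (2 * 0) EX RL ⟨3 :: [3, 3, 3], [], 9, false⟩) (lall (memL L) [3, 3, 3]) = true := by decide +kernel

theorem rot3_3 : T.rot 3 [4, 6, 2, 2] (sel (ones 10) ip3 3) = true := by decide +kernel

theorem rot3_3r : band (Rule.ok (2 * 0) EX RL ⟨3 :: [4, 6, 2, 2], [], 13, false⟩) (lall (memL L) [4, 6, 2, 2]) = true := by decide +kernel

theorem cov3 : T.cover 3 [(sel (ones 10) ip3 1), (sel (ones 10) ip3 2), (sel (ones 10) ip3 3)] = true := by decide +kernel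

theorem tl3 : T.treeLt 4 3 = true := by decide +kernel

theorem rot4_1 : T.rot 4 [2] (sel (ones 10) ip4 1) = true := by decide +kernel

theorem rot4_1r : band (Rule.ok (2 * 0) EX RL ⟨4 :: [2], [], 13, false⟩) (lall (memL L) [2]) = true := by decide +kernel

theorem rot4_2 : T.rot 4 [6, 2, 2, 3] (sel (ones 10) ip4 2) = true := by decide +kernel

theorem rot4_2r : band (Rule.ok (2 * 0) EX RL ⟨4 :: [6, 2, 2, 3], [], 13, false⟩) (lall (memL L) [6, 2, 2, 3]) = true := by decide +kernel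

theorem rot4_3 : T.rot 4 [4, 5, 2, 1] (sel (ones 10) ip4 3) = true := by decide +kernel

theorem rot4_3r : band (Rule.ok (2 * 0) EX RL ⟨4 :: [4, 5, 2, 1], [], 13, false⟩) (lall (memL L) [4, 5, 2, 1]) = true := by decide +kernel

theorem rot4_4 : T.rot 4 [5, 2, 1, 4] (sel (ones 10) ip4 4) = true := by decide +kernel

theorem rot4_4r : band (Rule.ok (2 * 0) EX RL ⟨4 :: [5, 2, 1, 4], [], 13, false⟩) (lall (memL L) [5, 2, 1, 4]) = true := by decide +kernel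

theorem rot4_5 : T.rot 4 [1, 2, 5, 3, 3, 5, 2, 3] (sel (ones 10) ip4 5) = true := by decide +kernel

theorem rot4_5r : band (Rule.ok (2 * 0) EX RL ⟨4 :: [1, 2, 5, 3, 3, 5, 2, 3], [3, 0], 11, true⟩) (lall (memL L) [1, 2, 5, 3, 3, 5, 2, 3]) = true := by decide +kernel

theorem rot4_6 : T.rot 4 [1, 4, 5, 3, 3, 6, 3, 2, 1, 1] (sel (ones 10) ip4 6) = true := by decide +kernel

theorem rot4_6r : band (Rule.ok (2 * 0) EX RL ⟨4 :: [1, 4, 5, 3, 3, 6, 3, 2, 1, 1], [3, 1, 1], 12, true⟩) (lall (memL L) [1, 4, 5, 3, 3, 6, 3, 2, 1, 1]) = true := by decide +kernel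

theorem rot4_7 : T.rot 4 [5, 3, 3, 6, 3, 2, 1, 1, 4, 1] (sel (ones 10) ip4 7) = true := by decide +kernel

theorem rot4_7r : band (Rule.ok (2 * 0) EX RL ⟨4 :: [5, 3, 3, 6, 3, 2, 1, 1, 4, 1], [3, 1, 1, 2, 1], 12, true⟩) (lall (memL L) [5, 3, 3, 6, 3, 2, 1, 1, 4, 1]) = true := by decide +kernel

theorem cov4 : T.cover 4 [(sel (ones 10) ip4 1), (sel (ones 10) ip4 2), (sel (ones 10) ip4 3), (sel (ones 10) ip4 4), (sel (ones 10) ip4 5), (sel (ones 10) ip4 6), (sel (ones 10) ip4 7)] = true := by decide +kernel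

theorem tl4 : T.treeLt 4 4 = true := by decide +kernel

theorem rot5_1 : T.rot 5 [5, 5, 5] (sel (ones 10) ip5 1) = true := by decide +kernel

theorem rot5_1r : band (Rule.ok (2 * 0) EX RL ⟨5 :: [5, 5, 5], [], 10, true⟩) (lall (memL L) [5, 5, 5]) = true := by decide +kernel

theorem rot5_2 : T.rot 5 [2, 1, 4, 4] (sel (ones 10) ip5 2) = true := by decide +kernel

theorem rot5_2r : band (Rule.ok (2 * 0) EX RL ⟨5 :: [2, 1, 4, 4], [], 13, false⟩) (lall (memL L) [2, 1, 4, 4]) = true := by decide +kernel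

theorem rot5_3 : T.rot 5 [3, 3, 5, 2, 3, 4, 1, 2] (sel (ones 10) ip5 3) = true := by decide +kernel

theorem rot5_3r : band (Rule.ok (2 * 0) EX RL ⟨5 :: [3, 3, 5, 2, 3, 4, 1, 2], [3, 0, 2, 1, 3], 11, true⟩) (lall (memL L) [3, 3, 5, 2, 3, 4, 1, 2]) = true := by decide +kernel

theorem rot5_4 : T.rot 5 [2, 3, 4, 1, 2, 5, 3, 3] (sel (ones 10) ip5 4) = true := by decide +kernel

theorem rot5_4r : band (Rule.ok (2 * 0) EX RL ⟨5 :: [2, 3, 4, 1, 2, 5, 3, 3], [3, 1, 2, 2], 11, true⟩) (lall (memL L) [2, 3, 4, 1, 2, 5, 3, 3]) = true := by decide +kernel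

theorem rot5_5 : T.rot 5 [3, 3, 5, 1, 6, 3, 5, 3, 6, 6, 5, 1, 6, 3, 3] (sel (ones 10) ip5 5) = true := by decide +kernel

theorem rot5_5r : band (Rule.ok (2 * 0) EX RL ⟨5 :: [3, 3, 5, 1, 6, 3, 5, 3, 6, 6, 5, 1, 6, 3, 3], [0], 8, true⟩) (lall (memL L) [3, 3, 5, 1, 6, 3, 5, 3, 6, 6, 5, 1, 6, 3, 3]) = true := by decide +kernel

theorem cov5 : T.cover 5 [(sel (ones 10) ip5 1), (sel (ones 10) ip5 2), (sel (ones 10) ip5 3), (sel (ones 10) ip5 4), (sel (ones 10) ip5 5), 1] = true := by decide +kernel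

theorem tl5 : Nat.beq (T.let 5).tt 0 = true := by decide +kernel

theorem rot6_1 : T.rot 6 [5] (sel (ones 10) ip6 1) = true := by decide +kernel

theorem rot6_1r : band (Rule.ok (2 * 0) EX RL ⟨6 :: [5], [], 13, false⟩) (lall (memL L) [5]) = true := by decide +kernel

theorem rot6_2 : T.rot 6 [6, 6, 6] (sel (ones 10) ip6 2) = true := by decide +kernel

theorem rot6_2r : band (Rule.ok (2 * 0) EX RL ⟨6 :: [6, 6, 6], [], 10, false⟩) (lall (memL L) [6, 6, 6]) = true := by decide +kernel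

theorem rot6_3 : T.rot 6 [2, 2, 3, 4] (sel (ones 10) ip6 3) = true := by decide +kernel

theorem rot6_3r : band (Rule.ok (2 * 0) EX RL ⟨6 :: [2, 2, 3, 4], [], 13, false⟩) (lall (memL L) [2, 2, 3, 4]) = true := by decide +kernel

theorem rot6_4 : T.rot 6 [1, 1, 6, 4, 3, 2, 1, 4] (sel (ones 10) ip6 4) = true := by decide +kernel

theorem rot6_4r : band (Rule.ok (2 * 0) EX RL ⟨6 :: [1, 1, 6, 4, 3, 2, 1, 4], [], 11, false⟩) (lall (memL L) [1, 1, 6, 4, 3, 2, 1, 4]) = true := by decide +kernel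

theorem rot6_5 : T.rot 6 [4, 3, 2, 1, 4, 6, 1, 1] (sel (ones 10) ip6 5) = true := by decide +kernel

theorem rot6_5r : band (Rule.ok (2 * 0) EX RL ⟨6 :: [4, 3, 2, 1, 4, 6, 1, 1], [3, 1, 2, 2, 1, 1], 11, false⟩) (lall (memL L) [4, 3, 2, 1, 4, 6, 1, 1]) = true := by decide +kernel

theorem rot6_6 : T.rot 6 [1, 1, 5, 3, 6, 5, 5, 1, 6, 1, 5, 3, 6, 1, 1] (sel (ones 10) ip6 6) = true := by decide +kernel

theorem rot6_6r : band (Rule.ok (2 * 0) EX RL ⟨6 :: [1, 1, 5, 3, 6, 5, 5, 1, 6, 1, 5, 3, 6, 1, 1], [0, 3, 3, 0, 2], 8, false⟩) (lall (memL L) [1, 1, 5, 3, 6, 5, 5, 1, 6, 1, 5, 3, 6, 1, 1]) = true := by decide +kernel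

theorem cov6 : T.cover 6 [(sel (ones 10) ip6 1), (sel (ones 10) ip6 2), (sel (ones 10) ip6 3), (sel (ones 10) ip6 4), (sel (ones 10) ip6 5), (sel (ones 10) ip6 6)] = true := by decide +kernel

theorem tl6 : Nat.beq (T.let 6).tt 0 = true := by decide +kernel

end Cfsg.Agent.Spor.Tib
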