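import Cfsg.Agent.Spor.Cert
import Cfsg.Agent.Spor.Tib.C0

set_option autoImplicit false
set_option maxRecDepth 100000000
set_option Elab.async false
set_option linter.unusedSectionVars false

namespace Cfsg.Agent.Spor.Tib

theorem hT : T.Ok 4 := T.ok_of 4 (show AllP (fun n => Net.okb 4 n = true) [n0, n1, n2] from AllP.cons ok0 (AllP.cons ok1 (AllP.cons ok2 (AllP.nil))))

noncomputable def fP : ℕ → Equiv.Perm ℕ := T.fP gs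

theorem hsq : ∀ j < 0, j < 2 → T.fP gs j * T.fP gs j = 1 :=
  Tab.sq (show AllP (fun z => evA T.τ [z, z] = 1) [] from AllP.nil) 2 rfl

theorem hiv : IvOk (2 * 0) (atm 2 (T.fP gs)) := ivOk_atm hsq

theorem pz1 : PZ T (atm 2 (T.fP gs)) EX 1 := PZ.of_atom (y := 2 * 0) (by decide +kernel) (atm_two_mul _ (by decide))
theorem pz2 : PZ T (atm 2 (T.fP gs)) EX 2 := PZ.of_atom (y := 2 * 1) (by decide +kernel) (atm_two_mul _ (by decide))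
theorem pz3 : PZ T (atm 2 (T.fP gs)) EX 3 := PZ.of_inv hiv pz1 (by decide +kernel)
theorem pz4 : PZ T (atm 2 (T.fP gs)) EX 4 := PZ.of_inv hiv pz2 (by decide +kernel)
theorem pz5 : PZ T (atm 2 (T.fP gs)) EX 5 := PZ.of_def hiv (d := [2, 1, 4, 4]) (AllP.cons pz2 (AllP.cons pz1 (AllP.cons pz4 (AllP.cons pz4 (AllP.nil))))) (hT.one rel0) (by decide +kernel)
theorem pz6 : PZ T (atm 2 (T.fP gs)) EX 6 := PZ.of_inv hiv pz5 (by decide +kernel)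
theorem hPZ : AllP (PZ T (atm 2 (T.fP gs)) EX) L :=
  show AllP (PZ T (atm 2 (T.fP gs)) EX) [1, 2, 3, 4, 5, 6] from AllP.cons pz1 (AllP.cons pz2 (AllP.cons pz3 (AllP.cons pz4 (AllP.cons pz5 (AllP.cons pz6 (AllP.nil))))))

theorem hrel : ∀ l ∈ RL, ev (atm 2 (T.fP gs)) l = 1 :=
  relAll_sound hiv (W := [[1, 6, 3, 3, 1, 6, 3, 3, 1, 6, 3, 3, 1, 6, 3, 3], [1, 6, 3, 3, 1, 6, 3, 3, 5, 1, 6, 3, 5, 3, 6, 6, 5, 1, 6, 3, 5, 3, 6, 6], [1, 6, 3, 3, 1, 6, 3, 3, 5, 1, 6, 3, 5, 5, 1, 6, 5, 1, 6, 3, 5, 5, 1, 6], [1, 6, 3, 3, 5, 3, 6, 6, 1, 1, 5, 3, 5, 1, 6, 3, 5, 5, 1, 6, 1, 5, 3, 6], [5, 1, 6, 3, 5, 1, 6, 3, 5, 1, 6, 3, 5, 1, 6, 3], [1, 6, 3, 3, 1, 5, 3, 6, 5, 3, 6, 6, 5, 1, 6, 3, 1, 1, 5, 3, 5, 5, 1, 6], [1, 6, 3, 3, 5, 1, 6, 3, 5, 5, 1, 6, 1, 6, 3, 3, 5, 1, 6, 3, 5, 5, 1, 6], [5, 3, 6, 6, 5, 3, 6, 6, 5, 3, 6, 6, 5,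 3, 6, 6], [3, 5, 3, 3, 5, 1, 6, 3, 5, 3, 6, 6, 5, 1, 6, 3], [1, 1, 1, 1], [5, 5, 5, 5], [2, 3, 4, 1, 2, 5, 3, 3, 5], [2, 1, 1, 4, 1, 4, 5, 3, 3, 6, 3]]) (rules := [⟨[1, 6, 3, 3, 1, 6, 3, 3, 1, 6, 3, 3, 1, 6, 3, 3], [], 0, true⟩, ⟨[1, 6, 3, 3, 1, 6, 3, 3, 5, 1, 6, 3, 5, 3, 6, 6, 5, 1, 6, 3, 5, 3, 6, 6], [], 1, true⟩, ⟨[1, 6, 3, 3, 1, 6, 3, 3, 5, 1, 6, 3, 5, 5, 1, 6, 5, 1, 6, 3, 5, 5, 1, 6], [], 2, true⟩, ⟨[1, 6, 3, 3, 5, 3, 6, 6, 1, 1, 5, 3, 5, 1, 6, 3, 5, 5, 1, 6, 1, 5, 3, 6], [], 3, true⟩, ⟨[5, 1, 6, 3, 5, 1, 6, 3, 5, 1, 6, 3, 5, 1, 6, 3], [], 4, true⟩, ⟨[1, 6, 3, 3, 1, 5, 3, 6, 5, 3, 6, 6, 5, 1, 6, 3, 1, 1, 5, 3, 5, 5, 1, 6], [], 5, true⟩, ⟨[1, 6, 3, 3, 5, 1, 6, 3, 5, 5, 1, 6, 1, 6, 3, 3, 5, 1, 6, 3, 5, 5, 1, 6], [], 6, true⟩, ⟨[5, 3, 6, 6, 5, 3, 6, 6, 5, 3, 6, 6, 5, 3, 6, 6], [], 7, true⟩, ⟨[3, 5,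 3, 3, 5, 1, 6, 3, 5, 3, 6, 6, 5, 1, 6, 3], [], 8, true⟩, ⟨[1, 1, 1, 1], [], 9, true⟩, ⟨[5, 5, 5, 5], [], 10, true⟩, ⟨[2, 3, 4, 1, 2, 5, 3, 3, 5], [], 11, true⟩, ⟨[2, 1, 1, 4, 1, 4, 5, 3, 3, 6, 3], [], 12, true⟩]) hPZ (AllP.cons (hT.one rel1) (AllP.cons (hT.one rel2) (AllP.cons (hT.one rel3) (AllP.cons (hT.one rel4) (AllP.cons (hT.one rel5) (AllP.cons (hT.one rel6) (AllP.cons (hT.one rel7) (AllP.cons (hT.one rel8) (AllP.cons (hT.one rel9) (AllP.cons (hT.one rel10) (AllP.cons (hT.one rel11) (AllP.cons (hT.one rel12) (AllP.cons (hT.one rel13) (AllP.nil)))))))))))))) (by decide +kernel)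

section
variable {G : Type} [Group G] {a : ℕ → G} (hi : IvOk (2 * 0) a) (hR : ∀ r ∈ RL, ev a r = 1)
  {H : Subgroup G} (hb : ∀ z ∈ base, letV a EX z ∈ H)
include hi hR hb

theorem let1 : LetOk H (letV a EX) T L 1 :=
  LetOk.of hT tl1 cov1 (AllP.cons (Just.rot hT hi hR rot1_1 rot1_1r) (AllP.cons (Just.rot hT hi hR rot1_2 rot1_2r) (AllP.cons (Just.rot hT hi hR rot1_3 rot1_3r) (AllP.cons (Just.base (hb 1 (by decide))) (AllP.nil)))))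
theorem let2 : LetOk H (letV a EX) T L 2 :=
  LetOk.of hT tl2 cov2 (AllP.cons (Just.rot hT hi hR rot2_1 rot2_1r) (AllP.cons (Just.rot hT hi hR rot2_2 rot2_2r) (AllP.cons (Just.rot hT hi hR rot2_3 rot2_3r) (AllP.cons (Just.rot hT hi hR rot2_4 rot2_4r) (AllP.cons (Just.rot hT hi hR rot2_5 rot2_5r) (AllP.cons (Just.rot hT hi hR rot2_6 rot2_6r) (AllP.cons (Just.rot hT hi hR rot2_7 rot2_7r) (AllP.nil))))))))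
theorem let3 : LetOk H (letV a EX) T L 3 :=
  LetOk.of hT tl3 cov3 (AllP.cons (Just.rot hT hi hR rot3_1 rot3_1r) (AllP.cons (Just.rot hT hi hR rot3_2 rot3_2r) (AllP.cons (Just.rot hT hi hR rot3_3 rot3_3r) (AllP.nil))))
theorem let4 : LetOk H (letV a EX) T L 4 :=
  LetOk.of hT tl4 cov4 (AllP.cons (Just.rot hT hi hR rot4_1 rot4_1r) (AllP.cons (Just.rot hT hi hR rot4_2 rot4_2r) (AllP.cons (Just.rot hT hi hR rot4_3 rot4_3r) (AllP.cons (Just.rot hT hi hR rot4_4 rot4_4r) (AllP.cons (Just.rot hT hi hR rot4_5 rot4_5r) (AllP.cons (Just.rot hT hi hR rot4_6 rot4_6r) (AllP.cons (Just.rot hT hi hR rot4_7 rot4_7r) (AllP.nil))))))))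
theorem let5 : LetOk H (letV a EX) T L 5 :=
  LetOk.of' hT tl5 cov5 (AllP.cons (Just.rot hT hi hR rot5_1 rot5_1r) (AllP.cons (Just.rot hT hi hR rot5_2 rot5_2r) (AllP.cons (Just.rot hT hi hR rot5_3 rot5_3r) (AllP.cons (Just.rot hT hi hR rot5_4 rot5_4r) (AllP.cons (Just.rot hT hi hR rot5_5 rot5_5r) (AllP.cons (Just.base (hb 5 (by decide))) (AllP.nil)))))))
theorem let6 : LetOk H (letV a EX) T L 6 :=
  LetOk.of' hT tl6 cov6 (AllP.cons (Just.rot hT hi hR rot6_1 rot6_1r) (AllP.cons (Just.rot hT hi hR rot6_2 rot6_2r) (AllP.cons (Just.rot hT hi hR rot6_3 rot6_3r) (AllP.cons (Just.rot hT hi hR rot6_4 rot6_4r) (AllP.cons (Just.rot hT hi hR rot6_5 rot6_5r) (AllP.cons (Just.rot hT hi hR rot6_6 rot6_6r) (AllP.nil)))))))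
theorem hlet : AllP (LetOk H (letV a EX) T L) L :=
  show AllP (LetOk H (letV a EX) T L) [1, 2, 3, 4, 5, 6] from AllP.cons (let1 hi hR hb) (AllP.cons (let2 hi hR hb) (AllP.cons (let3 hi hR hb) (AllP.cons (let4 hi hR hb) (AllP.cons (let5 hi hR hb) (AllP.cons (let6 hi hR hb) (AllP.nil))))))
end

theorem cert : Cert 2 0 RL BW fP 10 :=
  Cert.of hT ⟨hsq, hrel⟩ hPZ (fun _ _ _ hi hR _ hb => hlet hi hR hb) hcov hg (by decide +kernel)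

end Cfsg.Agent.Spor.Tib
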