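import Cfsg.Agent.Spor.Chk

set_option autoImplicit false
set_option maxRecDepth 100000000
set_option Elab.async false
noncomputable section

namespace Cfsg.Agent.Spor.Tib

def m0_0 : Nat := nat_lit 0x1
def m0_1 : Nat := nat_lit 0xe
def m0_2 : Nat := nat_lit 0x11
def m0_3 : Nat := nat_lit 0x21
def m0_4 : Nat := nat_lit 0x2
def m0_5 : Nat := nat_lit 0x1
def n0 : Net := Net.cons 8 m0_0 (Net.cons 4 m0_1 (Net.cons 1 m0_2 (Net.cons 2 m0_3 (Net.cons 4 m0_4 (Net.cons 8 m0_5 (Net.nil))))))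

def m1_0 : Nat := nat_lit 0x2
def m1_1 : Nat := nat_lit 0x6
def m1_2 : Nat := nat_lit 0x33
def m1_3 : Nat := nat_lit 0x110
def m1_4 : Nat := nat_lit 0x1
def n1 : Net := Net.cons 8 m1_0 (Net.cons 4 m1_1 (Net.cons 2 m1_2 (Net.cons 1 m1_3 (Net.cons 8 m1_4 (Net.nil)))))

def m2_0 : Nat := nat_lit 0x1
def m2_1 : Nat := nat_lit 0xe
def m2_2 : Nat := nat_lit 0x11
def m2_3 : Nat := nat_lit 0x14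
def m2_4 : Nat := nat_lit 0x11
def m2_5 : Nat := nat_lit 0x1
def m2_6 : Nat := nat_lit 0x1
def n2 : Net := Net.cons 8 m2_0 (Net.cons 4 m2_1 (Net.cons 2 m2_2 (Net.cons 1 m2_3 (Net.cons 2 m2_4 (Net.cons 4 m2_5 (Net.cons 8 m2_6 (Net.nil)))))))

def ip1 : List Nat := [0x250, 0x380]
def l1 : Let := ⟨0, false, 0x3ff, 0x1a8, [0x250, 0x380, 0x200, 0x0]⟩

def ip2 : List Nat := [0x154, 0x31a, 0x78]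
def l2 : Let := ⟨1, false, 0x3ff, 0x202, [0x304, 0x17a, 0x128, 0x200]⟩

def ip3 : List Nat := [0x3a9, 0x250]
def l3 : Let := ⟨0, true, 0x3ff, 0x50, [0x3a9, 0x250, 0x200, 0x0]⟩

def ip4 : List Nat := [0x33a, 0x1e8, 0xb4]
def l4 : Let := ⟨1, true, 0x3ff, 0x4, [0x342, 0xfc, 0x64, 0x100]⟩

def ip5 : List Nat := [0x3a, 0x4e, 0x90]
def l5 : Let := ⟨2, false, 0xff, 0x0, [0x64, 0x54, 0x3a, 0x80]⟩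

def ip6 : List Nat := [0x163, 0xc6, 0x1a8]
def l6 : Let := ⟨2, true, 0x1ef, 0x0, [0x47, 0xc2, 0x1a4, 0x8]⟩

def NT : List Net := [n0, n1, n2]
def LT : List Let := [⟨0, false, 0, 0, []⟩, l1, l2, l3, l4, l5, l6]
def T : Tab := ⟨NT, LT⟩
def EX : List (List Nat) := [[], [0], [2], [1], [3], [3, 1, 2, 2], [3, 3, 0, 2]]
def RL : List (List Nat) := [[1, 1, 3, 3, 0, 2, 1, 3, 3, 0, 2, 1, 3, 3, 0, 2, 1, 3, 3, 0, 2, 0], [3, 3, 0, 3, 0, 2, 1, 3, 1, 2, 2, 1, 3, 3, 0, 2, 0, 3, 3, 0, 2, 1, 3, 1, 2, 2, 1, 3, 3, 0, 2, 0, 3, 1, 2, 2, 1, 1, 3, 3, 0, 2, 1, 3, 3, 0, 2, 0], [3, 3, 0, 2, 0, 3, 1, 2, 1, 2, 2, 1, 3, 3, 0, 2, 0, 0, 3, 1, 2, 1, 2, 2, 1, 3, 3, 0, 2, 0, 3, 1, 2, 2, 1, 1, 3, 3, 0, 2, 1, 3, 3, 0, 2, 0], [3, 3, 0, 2, 1, 3, 1, 2, 2, 0, 3, 3, 0, 2, 0, 3, 1, 2, 1, 2,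 2, 1, 3, 3, 0, 2, 0, 3, 1, 2, 2, 1, 3, 1, 2, 2, 0, 0, 3, 3, 0, 3, 0, 2, 1, 3, 1, 2, 2, 1, 1, 3, 3, 0, 2, 0], [1, 3, 3, 0, 2, 0, 3, 1, 2, 2, 1, 3, 3, 0, 2, 0, 3, 1, 2, 2, 1, 3, 3, 0, 2, 0, 3, 1, 2, 2, 1, 3, 3, 0, 2, 0, 3, 1, 2, 2], [3, 3, 0, 2, 0, 3, 1, 2, 1, 2, 2, 1, 3, 1, 2, 2, 0, 3, 3, 0, 2, 0, 3, 3, 0, 2, 1, 1, 3, 1, 2, 2, 1, 3, 3, 0, 2, 0], [3, 3, 0, 2, 0, 3, 1, 2, 1, 2, 2, 1, 3, 3, 0, 2, 0, 3, 1, 2, 2, 1, 1, 3, 3, 0, 2, 0, 3, 3, 0, 2, 0, 3, 1, 2, 1, 2, 2, 1, 3, 3, 0, 2, 0, 3, 1, 2, 2, 1, 1, 3, 3, 0, 2, 0], [3, 3, 0, 3, 0, 2, 1, 3, 3, 0, 2, 1, 3, 3, 0, 2, 1, 3, 3, 0, 2, 1, 3, 1, 2, 2], [1, 3, 3, 0, 2, 0, 3, 3, 0, 2, 1, 3, 1, 2, 2, 1, 3, 3, 0, 2, 0, 3, 1, 2, 2, 1, 1, 3, 1, 2, 2, 1], [0, 0, 0, 0], [3, 1, 2, 1, 2, 1, 2, 1, 2, 2], [3, 1, 2, 2, 1, 1,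 3, 1, 2, 2, 2, 0, 3, 1, 2], [1, 3, 3, 0, 2, 1, 1, 3, 1, 2, 0, 3, 0, 0, 2]]
def XL : List (List Nat) := []
def BW : List (List Nat) := [[0], [3, 1, 2, 2]]
def IV : Nat := 0x5060201040300
def L : List Nat := [1, 2, 3, 4, 5, 6]
def gs : List Nat := [1, 2]
def base : List Nat := [1, 5]

end Cfsg.Agent.Spor.Tib
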